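import Groth.Agent.CohtopB.HypHZero
import Groth.Agent.CohtopB.FreeSheafHom
import Groth.Agent.CohtopA.DimShift
import Groth.Prelude.Def_CohSite
import Groth.Prelude.Def_CohCx

/-!
# Cech complexes of acyclic sheaves for locally fillable simplicial objects

* `valMap` : the map on cochains induced by a morphism of presheaves;
* `exists_sect_lift`, `sect_injective`, `exists_sect_ker` : (left) exactness of sections over an object;
* `exact_of_acyclic` : the Cech complex of an abelian sheaf which is acyclic on every object is exact in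
  positive degrees, for every simplicial object that is a local hypercovering of a representable presheaf.
-/

set_option autoImplicit false

universe u

open CategoryTheory CategoryTheory.Limits Opposite Simplicial

namespace Groth.Agent.Topos.H577.CechAcyclic

open Groth.Agent.CohtopB LocTriv HypInj HypHZero FreeSheafHom
open Groth.Agent.CohtopA.DimShift

section valMap

variable {C : Type u} [SmallCategory C] {P P' : Cᵒᵖ ⥤ AddCommGrpCat.{u}}

/-- The map on values at a formal coproduct induced by a morphism of presheaves. -/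
noncomputable def valMap (φ : P ⟶ P') (L : FormalCoproduct.{u} C) : val P L ⟶ val P' L :=
  ((FormalCoproduct.evalOp.{u} C AddCommGrpCat.{u}).map φ).app (op L)

lemma valMap_proj (φ : P ⟶ P') {L : FormalCoproduct.{u} C} (i : L.I) :
    valMap φ L ≫ proj P' i = proj P i ≫ φ.app (op (L.obj i)) := by
  change Limits.Pi.map (fun i : L.I => φ.app (op (L.obj i))) ≫ Limits.Pi.π _ i = _
  rw [Limits.Pi.map_π]
  rfl

lemma valMap_evh (φ : P ⟶ P') {L : FormalCoproduct.{u} C} {V : C}
    (x : (FormalCoproduct.incl.{u} C).obj V ⟶ L) :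
    valMap φ L ≫ evh P' x = evh P x ≫ φ.app (op V) := by
  unfold evh
  rw [← Category.assoc, valMap_proj, Category.assoc, Category.assoc, φ.naturality]

lemma evh_valMap (φ : P ⟶ P') {L : FormalCoproduct.{u} C} {V : C}
    (x : (FormalCoproduct.incl.{u} C).obj V ⟶ L) (s : val P L) :
    evh P' x (valMap φ L s) = φ.app (op V) (evh P x s) :=
  ConcreteCategory.congr_hom (valMap_evh φ x) s

lemma dd_valMap (φ : P ⟶ P') (K : SimplicialObject (FormalCoproduct.{u} C)) (n : ℕ)
    (s : val P (K _⦋n⦌)) :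
    dd K P' n (valMap φ _ s) = valMap φ _ (dd K P n s) := by
  refine val_ext P' fun i => ?_
  rw [evh_dd, evh_valMap, evh_dd, map_sum]
  refine Finset.sum_congr rfl fun j _ => ?_
  rw [map_zsmul, evh_valMap]

/-- Cochains from their components. -/
lemma exists_val_of_comp {L : FormalCoproduct.{u} C} (x : ∀ i : L.I, P.obj (op (L.obj i))) :
    ∃ s : val P L, ∀ i : L.I,
      evh P (FormalCoproduct.Hom.fromIncl i (𝟙 (L.obj i))) s = x i := by
  refine ⟨(Concrete.productEquiv (fun i : L.I => P.obj (op (L.obj i)))).symm x, fun i => ?_⟩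
  rw [evh_fromIncl]
  exact Concrete.productEquiv_symm_apply_π (fun i : L.I => P.obj (op (L.obj i))) _ _

end valMap

section sections

variable {C : Type u} [SmallCategory C] {J : GrothendieckTopology C}

lemma app_eq_comp {F G : Sheaf J AddCommGrpCat.{u}} (f : F ⟶ G) {U : C} (s : F.obj.obj (op U)) :
    f.hom.app (op U) s = (((homMk s ≫ f : CohCx.freeSheaf J U ⟶ G)).hom.app (op U)).hom (gen J U) := by
  change _ = (f.hom.app (op U)).hom (((homMk s).hom.app (op U)).hom (gen J U))
  rw [homMk_app_gen]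

/-- Sections of a monomorphism are injective. -/
lemma sect_injective {F G : Sheaf J AddCommGrpCat.{u}} (f : F ⟶ G) [Mono f] {U : C} {s t : F.obj.obj (op U)}
    (h : f.hom.app (op U) s = f.hom.app (op U) t) : s = t := by
  have h1 : homMk s ≫ f = homMk t ≫ f :=
    hom_ext ((app_eq_comp f s).symm.trans (h.trans (app_eq_comp f t)))
  rw [cancel_mono] at h1
  have h2 := congrArg (fun g : CohCx.freeSheaf J U ⟶ F => (g.hom.app (op U)).hom (gen J U)) h1
  simpa only [homMk_app_gen] using h2

/-- Left exactness of sections. -/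
lemma exists_sect_ker {S : ShortComplex (Sheaf J AddCommGrpCat.{u})} (hS : S.ShortExact) {U : C}
    (s : S.X₂.obj.obj (op U)) (hs : S.g.hom.app (op U) s = 0) :
    ∃ t : S.X₁.obj.obj (op U), S.f.hom.app (op U) t = s := by
  have := hS.mono_f
  have h0 : (homMk s : CohCx.freeSheaf J U ⟶ S.X₂) ≫ S.g = 0 := by
    refine hom_ext ?_
    rw [← app_eq_comp, hs]
    rfl
  refine ⟨((hS.exact.lift _ h0).hom.app (op U)).hom (gen J U), ?_⟩
  change ((hS.exact.lift _ h0 ≫ S.f).hom.app (op U)).hom (gen J U) = s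
  rw [hS.exact.lift_f, homMk_app_gen]

/-- Sections lift if `H^1` of the kernel vanishes. -/
lemma exists_sect_lift {S : ShortComplex (Sheaf J AddCommGrpCat.{u})} (hS : S.ShortExact) {U : C}
    (h1 : ∀ x : Abelian.Ext (CohCx.freeSheaf J U) S.X₁ 1, x = 0)
    (s : S.X₃.obj.obj (op U)) : ∃ t : S.X₂.obj.obj (op U), S.g.hom.app (op U) t = s := by
  obtain ⟨t, ht⟩ := exists_lift_of_ext_one hS _ h1 (homMk s)
  refine ⟨(t.hom.app (op U)).hom (gen J U), ?_⟩
  refine Eq.trans ?_ (homMk_app_gen s)
  rw [← ht]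
  rfl

lemma exists_ker_valMap {S : ShortComplex (Sheaf J AddCommGrpCat.{u})} (hS : S.ShortExact)
    {L : FormalCoproduct.{u} C} (s : val S.X₂.obj L) (hs : valMap S.g.hom L s = 0) :
    ∃ t : val S.X₁.obj L, valMap S.f.hom L t = s := by
  have h : ∀ i : L.I, ∃ t : S.X₁.obj.obj (op (L.obj i)), S.f.hom.app (op (L.obj i)) t =
      evh S.X₂.obj (FormalCoproduct.Hom.fromIncl i (𝟙 (L.obj i))) s := by
    intro i
    refine exists_sect_ker hS _ ?_
    rw [← evh_valMap, hs, map_zero]
  choose t ht using h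
  obtain ⟨t', ht'⟩ := exists_val_of_comp (P := S.X₁.obj) t
  refine ⟨t', val_ext _ fun i => ?_⟩
  rw [evh_valMap, ht', ht]

lemma valMap_injective {F G : Sheaf J AddCommGrpCat.{u}} (f : F ⟶ G) [Mono f]
    {L : FormalCoproduct.{u} C} {s t : val F.obj L} (h : valMap f.hom L s = valMap f.hom L t) : s = t := by
  refine val_ext _ fun i => ?_
  refine sect_injective f ?_
  rw [← evh_valMap, ← evh_valMap, h]

lemma exists_lift_valMap {S : ShortComplex (Sheaf J AddCommGrpCat.{u})} (hS : S.ShortExact)
    (h1 : ∀ (U : C) (x : Abelian.Ext (CohCx.freeSheaf J U) S.X₁ 1), x = 0)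
    {L : FormalCoproduct.{u} C} (s : val S.X₃.obj L) :
    ∃ t : val S.X₂.obj L, valMap S.g.hom L t = s := by
  choose t ht using fun i : L.I => exists_sect_lift hS (h1 (L.obj i))
    (evh S.X₃.obj (FormalCoproduct.Hom.fromIncl i (𝟙 (L.obj i))) s)
  obtain ⟨t', ht'⟩ := exists_val_of_comp (P := S.X₂.obj) t
  refine ⟨t', val_ext _ fun i => ?_⟩
  rw [evh_valMap, ht', ht]

end sections

section main

variable {C : Type u} [SmallCategory C] {J : GrothendieckTopology C}
  {K : SimplicialObject (FormalCoproduct.{u} C)}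

lemma sep_of_sheaf (F : Sheaf J AddCommGrpCat.{u}) ⦃V : C⦄ (x : F.obj.obj (op V))
    (h : Loc J V (fun _ g => F.obj.map g.op x = 0)) : x = 0 := by
  refine eq_of_loc F.property (h.mono fun W g hg => ?_)
  rw [hg, map_zero]

lemma exact_of_injective {E : Cᵒᵖ ⥤ Type u} {a : Augm K E} (h : IsLocHyp J a)
    (I : Sheaf J AddCommGrpCat.{u}) [Injective I] {n : ℕ} (s : val I.obj (K _⦋n + 1⦌))
    (hs : dd K I.obj (n + 1) s = 0) : ∃ t : val I.obj (K _⦋n⦌), dd K I.obj n t = s := by
  have : Injective I.obj := Injective.injective_of_adjoint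
    (sheafificationAdjunction J AddCommGrpCat.{u}) I
  exact exact_of_isLocHyp h (sep_of_sheaf I) s hs

/-- `dd` of the restriction of a global section to degree zero vanishes; existence of the restriction. -/
lemma exists_aug {X : C} {a : Augm K (yoneda.obj X)} (P : Cᵒᵖ ⥤ AddCommGrpCat.{u}) (x : P.obj (op X)) :
    ∃ s : val P (K _⦋0⦌), (∀ ⦃V : C⦄ (y : Sec K 0 V), evh P y s = P.map (Quiver.Hom.op (a.ε y)) x) ∧
      dd K P 0 s = 0 := by
  obtain ⟨s, hs⟩ := exists_val P (L := K _⦋0⦌)
    (fun V (y : Sec K 0 V) => P.map (Quiver.Hom.op (a.ε y)) x) (fun V W g y => by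
      have h := a.ε_rs g y
      change P.map (Quiver.Hom.op (a.ε (rs g y))) x = _
      rw [h, ← ConcreteCategory.comp_apply, ← P.map_comp]
      rfl)
  refine ⟨s, hs, val_ext P fun i => ?_⟩
  rw [evh_dd, map_zero, Fin.sum_univ_two]
  have h1 := hs ((FormalCoproduct.Hom.fromIncl i (𝟙 _) : Sec K 1 _) ≫ K.δ 0)
  have h2 := hs ((FormalCoproduct.Hom.fromIncl i (𝟙 _) : Sec K 1 _) ≫ K.δ 1)
  rw [h1, h2, a.ε_δ]
  simp

/-- The Cech complex of an everywhere acyclic abelian sheaf is exact in positive degrees. -/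
theorem exact_of_acyclic {X : C} {a : Augm K (yoneda.obj X)} (h : IsLocHyp J a) (n : ℕ) :
    ∀ (F : Sheaf J AddCommGrpCat.{u})
      (_ : ∀ (U : C) (q : ℕ) (x : Abelian.Ext (CohCx.freeSheaf J U) F (q + 1)), x = 0)
      (s : val F.obj (K _⦋n + 1⦌)) (_ : dd K F.obj (n + 1) s = 0),
      ∃ t : val F.obj (K _⦋n⦌), dd K F.obj n t = s := by
  induction n with
  | zero =>
    intro F hF s hs
    obtain ⟨I, Q, i, q, w, hI, hS⟩ := exists_shortExact_injective F
    have hm : Mono i := hS.mono_f
    -- `s` becomes a coboundary in `I`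
    obtain ⟨y, hy⟩ := exact_of_injective h I (valMap i.hom _ s) (by
      rw [dd_valMap, hs, map_zero])
    -- its image in `Q` is a cocycle
    have hw : ∀ {L : FormalCoproduct.{u} C} (z : val F.obj L),
        valMap q.hom L (valMap i.hom L z) = 0 := by
      intro L z
      refine val_ext _ fun j => ?_
      rw [evh_valMap, evh_valMap, map_zero]
      have : (i ≫ q).hom.app (op (L.obj j)) (evh F.obj (FormalCoproduct.Hom.fromIncl j (𝟙 (L.obj j))) z) =
          0 := by
        rw [w]
        rfl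
      exact this
    have hyq : dd K Q.obj 0 (valMap q.hom _ y) = 0 := by
      rw [dd_valMap, hy, hw]
    obtain ⟨t, ht⟩ := exists_section_of_cocycle h Q.property _ hyq (V := X) (𝟙 X)
    obtain ⟨t', ht'⟩ := exists_sect_lift hS (hF X 0) t
    obtain ⟨y', hy', hdy'⟩ := exists_aug (a := a) I.obj t'
    have hz : valMap q.hom _ (y - y') = 0 := by
      rw [map_sub, sub_eq_zero]
      refine val_ext _ fun j => ?_
      rw [evh_valMap, evh_valMap, hy']
      have e1 := ht (W := (K _⦋0⦌).obj j) (a.ε (V := (K _⦋0⦌).obj j) (FormalCoproduct.Hom.fromIncl j (𝟙 _)))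
        (FormalCoproduct.Hom.fromIncl j (𝟙 _)) (Category.comp_id _).symm
      rw [evh_valMap, ← ht'] at e1
      exact e1.symm.trans (NatTrans.naturality_apply q.hom _ t').symm
    obtain ⟨r, hr⟩ := exists_ker_valMap hS (y - y') hz
    refine ⟨r, valMap_injective i ?_⟩
    rw [← dd_valMap]
    have hr' : valMap i.hom _ r = y - y' := hr
    rw [hr', map_sub, hdy', sub_zero, hy]
  | succ n ih =>
    intro F hF s hs
    obtain ⟨I, Q, i, q, w, hI, hS⟩ := exists_shortExact_injective F
    have hm : Mono i := hS.mono_f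
    have hQ : ∀ (U : C) (q : ℕ) (x : Abelian.Ext (CohCx.freeSheaf J U) Q (q + 1)), x = 0 :=
      fun U q x => ext_eq_zero_of_left hS _ (q + 1) (hF U (q + 1))
        (fun x => Abelian.Ext.eq_zero_of_injective x) x
    obtain ⟨y, hy⟩ := exact_of_injective h I (valMap i.hom _ s) (by
      rw [dd_valMap, hs, map_zero])
    have hw : ∀ {L : FormalCoproduct.{u} C} (z : val F.obj L),
        valMap q.hom L (valMap i.hom L z) = 0 := by
      intro L z
      refine val_ext _ fun j => ?_
      rw [evh_valMap, evh_valMap, map_zero]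
      have : (i ≫ q).hom.app (op (L.obj j)) (evh F.obj (FormalCoproduct.Hom.fromIncl j (𝟙 (L.obj j))) z) =
          0 := by
        rw [w]
        rfl
      exact this
    have hyq : dd K Q.obj (n + 1) (valMap q.hom _ y) = 0 := by
      rw [dd_valMap, hy, hw]
    obtain ⟨t, ht⟩ := ih Q hQ _ hyq
    obtain ⟨t', ht'⟩ := exists_lift_valMap hS (fun U => hF U 0) t
    have hz : valMap q.hom _ (y - dd K I.obj n t') = 0 := by
      rw [map_sub, sub_eq_zero, ← dd_valMap]
      exact (ht.symm.trans (congrArg _ ht'.symm))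
    obtain ⟨r, hr⟩ := exists_ker_valMap hS (y - dd K I.obj n t') hz
    refine ⟨r, valMap_injective i ?_⟩
    rw [← dd_valMap]
    have hr' : valMap i.hom _ r = y - dd K I.obj n t' := hr
    have hdd : dd K I.obj (n + 1) (dd K I.obj n t') = 0 := by
      have h3 : dd K I.obj n ≫ dd K I.obj (n + 1) = 0 := by
        rw [← cx_d, ← cx_d]
        exact (cx K I.obj).d_comp_d _ _ _
      exact ConcreteCategory.congr_hom h3 t'
    rw [hr', map_sub, hdd, sub_zero, hy]

theorem isZero_homology_of_acyclic {X : C} {a : Augm K (yoneda.obj X)} (h : IsLocHyp J a)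
    (F : Sheaf J AddCommGrpCat.{u})
    (hF : ∀ (U : C) (q : ℕ), Subsingleton (CohSite.HU F (q + 1) U)) (p : ℕ) :
    IsZero ((cx K F.obj).homology (p + 1)) := by
  rw [← HomologicalComplex.exactAt_iff_isZero_homology,
    (cx K F.obj).exactAt_iff' p (p + 1) (p + 2) (by simp) (by simp), ShortComplex.ab_exact_iff]
  intro s hs
  change (cx K F.obj).d (p + 1) (p + 2) s = 0 at hs
  rw [cx_d] at hs
  obtain ⟨t, ht⟩ := exact_of_acyclic h p F (fun U q x => by
    have : Subsingleton (Abelian.Ext (CohCx.freeSheaf J U) F (q + 1)) := hF U q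
    exact Subsingleton.elim _ _) s hs
  refine ⟨t, ?_⟩
  change (cx K F.obj).d p (p + 1) t = s
  rw [cx_d]
  exact ht

end main

end Groth.Agent.Topos.H577.CechAcyclic
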